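import Mathlib
import Cfsg.Agent.Lib.Helper48.FrakL.Defs

set_option autoImplicit false
set_option linter.unusedSimpArgs false
set_option linter.unusedVariables false
set_option linter.unusedTactic false
set_option linter.unreachableTactic false

/-!
Package A of the S2863 project (helper48): a quadratic `SL₂(F)`-module `V = C_V(U⁺) × C_V(U⁻)`
with `[V, U^±] ≤ C_V(U^±)`: every element of trace `≠ 2` acts fixed-point-freely.
-/

namespace Cfsg.Agent.Lib.Helper33.FrakL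

open Cfsg.Agent.Lib.Helper48.FrakL

universe u v

section Mat

variable {F : Type u} [Field F]

theorem sl2_ext {A B : Matrix.SpecialLinearGroup (Fin 2) F} (h00 : A 0 0 = B 0 0)
    (h01 : A 0 1 = B 0 1) (h10 : A 1 0 = B 1 0) (h11 : A 1 1 = B 1 1) : A = B := by
  apply Subtype.ext
  ext i j
  fin_cases i <;> fin_cases j
  · exact h00
  · exact h01
  · exact h10
  · exact h11

theorem mul_00 (A B : Matrix.SpecialLinearGroup (Fin 2) F) :
    (A * B) 0 0 = A 0 0 * B 0 0 + A 0 1 * B 1 0 := by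
  simp [Matrix.SpecialLinearGroup.coe_mul, Matrix.mul_apply, Fin.sum_univ_two]

theorem mul_01 (A B : Matrix.SpecialLinearGroup (Fin 2) F) :
    (A * B) 0 1 = A 0 0 * B 0 1 + A 0 1 * B 1 1 := by
  simp [Matrix.SpecialLinearGroup.coe_mul, Matrix.mul_apply, Fin.sum_univ_two]

theorem mul_10 (A B : Matrix.SpecialLinearGroup (Fin 2) F) :
    (A * B) 1 0 = A 1 0 * B 0 0 + A 1 1 * B 1 0 := by
  simp [Matrix.SpecialLinearGroup.coe_mul, Matrix.mul_apply, Fin.sum_univ_two]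

theorem mul_11 (A B : Matrix.SpecialLinearGroup (Fin 2) F) :
    (A * B) 1 1 = A 1 0 * B 0 1 + A 1 1 * B 1 1 := by
  simp [Matrix.SpecialLinearGroup.coe_mul, Matrix.mul_apply, Fin.sum_univ_two]

theorem one_00 : (1 : Matrix.SpecialLinearGroup (Fin 2) F) 0 0 = 1 := by simp
theorem one_01 : (1 : Matrix.SpecialLinearGroup (Fin 2) F) 0 1 = 0 := by simp
theorem one_10 : (1 : Matrix.SpecialLinearGroup (Fin 2) F) 1 0 = 0 := by simp
theorem one_11 : (1 : Matrix.SpecialLinearGroup (Fin 2) F) 1 1 = 1 := by simp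

theorem xe_00 (t : F) : (xe t) 0 0 = 1 := by simp [xe]
theorem xe_01 (t : F) : (xe t) 0 1 = t := by simp [xe]
theorem xe_10 (t : F) : (xe t) 1 0 = 0 := by simp [xe]
theorem xe_11 (t : F) : (xe t) 1 1 = 1 := by simp [xe]
theorem ye_00 (t : F) : (ye t) 0 0 = 1 := by simp [ye]
theorem ye_01 (t : F) : (ye t) 0 1 = 0 := by simp [ye]
theorem ye_10 (t : F) : (ye t) 1 0 = t := by simp [ye]
theorem ye_11 (t : F) : (ye t) 1 1 = 1 := by simp [ye]

theorem det_eq (g : Matrix.SpecialLinearGroup (Fin 2) F) :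
    g 0 0 * g 1 1 - g 0 1 * g 1 0 = 1 := by
  have h := g.2
  rw [Matrix.det_fin_two] at h
  exact h

/-- `n(t) = xe t * ye (-t⁻¹) * xe t`, equal to `[[0, t], [-t⁻¹, 0]]` for `t ≠ 0`. -/
def nn (t : F) : Matrix.SpecialLinearGroup (Fin 2) F := xe t * ye (-t⁻¹) * xe t

theorem nn_00 {t : F} (ht : t ≠ 0) : (nn t) 0 0 = 0 := by
  simp only [nn, mul_00, mul_01, mul_10, mul_11, xe_00, xe_01, xe_10, xe_11, ye_00, ye_01, ye_10,
    ye_11]
  field_simp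
  ring

theorem nn_01 {t : F} (ht : t ≠ 0) : (nn t) 0 1 = t := by
  simp only [nn, mul_00, mul_01, mul_10, mul_11, xe_00, xe_01, xe_10, xe_11, ye_00, ye_01, ye_10,
    ye_11]
  field_simp
  ring

theorem nn_10 {t : F} (ht : t ≠ 0) : (nn t) 1 0 = -t⁻¹ := by
  simp only [nn, mul_00, mul_01, mul_10, mul_11, xe_00, xe_01, xe_10, xe_11, ye_00, ye_01, ye_10,
    ye_11]
  ring

theorem nn_11 {t : F} (ht : t ≠ 0) : (nn t) 1 1 = 0 := by
  simp only [nn, mul_00, mul_01, mul_10, mul_11, xe_00, xe_01, xe_10, xe_11, ye_00, ye_01, ye_10,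
    ye_11]
  field_simp
  ring

theorem xe_add (t t' : F) : xe t * xe t' = xe (t + t') := by
  apply sl2_ext <;>
    simp only [mul_00, mul_01, mul_10, mul_11, xe_00, xe_01, xe_10, xe_11] <;> ring

theorem ye_add (t t' : F) : ye t * ye t' = ye (t + t') := by
  apply sl2_ext <;>
    simp only [mul_00, mul_01, mul_10, mul_11, ye_00, ye_01, ye_10, ye_11] <;> ring

theorem xe_zero : xe (0 : F) = 1 := by
  apply sl2_ext <;> simp only [xe_00, xe_01, xe_10, xe_11, one_00, one_01, one_10, one_11]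

theorem ye_zero : ye (0 : F) = 1 := by
  apply sl2_ext <;> simp only [ye_00, ye_01, ye_10, ye_11, one_00, one_01, one_10, one_11]

theorem ye_mul_nn {t : F} (ht : t ≠ 0) (s : F) : ye s * nn t = nn t * xe (-s * t ^ 2) := by
  apply sl2_ext <;>
    simp only [mul_00, mul_01, mul_10, mul_11, xe_00, xe_01, xe_10, xe_11, ye_00, ye_01, ye_10,
      ye_11, nn_00 ht, nn_01 ht, nn_10 ht, nn_11 ht] <;> field_simp <;> ring

theorem xe_mul_nn {t : F} (ht : t ≠ 0) (s : F) : xe s * nn t = nn t * ye (-s / t ^ 2) := by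
  apply sl2_ext <;>
    simp only [mul_00, mul_01, mul_10, mul_11, xe_00, xe_01, xe_10, xe_11, ye_00, ye_01, ye_10,
      ye_11, nn_00 ht, nn_01 ht, nn_10 ht, nn_11 ht] <;> field_simp <;> ring

theorem nn_mul_nn_neg {t : F} (ht : t ≠ 0) : nn t * nn (-t) = 1 := by
  have ht' : -t ≠ 0 := neg_ne_zero.mpr ht
  apply sl2_ext <;>
    simp only [mul_00, mul_01, mul_10, mul_11, nn_00 ht, nn_01 ht, nn_10 ht, nn_11 ht, nn_00 ht',
      nn_01 ht', nn_10 ht', nn_11 ht', one_00, one_01, one_10, one_11] <;> field_simp <;> ring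

/-- An element with zero `(0,0)`-entry is `n(t) * xe s`. -/
theorem eq_nn_mul_xe (g : Matrix.SpecialLinearGroup (Fin 2) F) (h00 : g 0 0 = 0) :
    g 0 1 ≠ 0 ∧ g = nn (g 0 1) * xe (-(g 0 1 * g 1 1)) := by
  have hd := det_eq g
  rw [h00, zero_mul, zero_sub] at hd
  have hb : g 0 1 ≠ 0 := by
    intro h
    rw [h, zero_mul, neg_zero] at hd
    exact zero_ne_one hd
  refine ⟨hb, ?_⟩
  have hc : g 1 0 = -(g 0 1)⁻¹ := by
    field_simp
    linear_combination -hd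
  apply sl2_ext <;>
    simp only [mul_00, mul_01, mul_10, mul_11, xe_00, xe_01, xe_10, xe_11, nn_00 hb, nn_01 hb,
      nn_10 hb, nn_11 hb, h00, hc] <;> field_simp <;> ring

end Mat

section Mod

variable {F : Type u} [Field F] {V : Type v} [CommGroup V]
  (ρ : Matrix.SpecialLinearGroup (Fin 2) F →* MulAut V)

/-- `C_V(U⁺)`. -/
def fixX : Subgroup V where
  carrier := {v | ∀ t, ρ (xe t) v = v}
  mul_mem' := by
    intro a b ha hb t
    rw [map_mul, ha t, hb t]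
  one_mem' := by
    intro t
    exact map_one _
  inv_mem' := by
    intro a ha t
    rw [map_inv, ha t]

/-- `C_V(U⁻)`. -/
def fixY : Subgroup V where
  carrier := {v | ∀ t, ρ (ye t) v = v}
  mul_mem' := by
    intro a b ha hb t
    rw [map_mul, ha t, hb t]
  one_mem' := by
    intro t
    exact map_one _
  inv_mem' := by
    intro a ha t
    rw [map_inv, ha t]

theorem mem_fixX {v : V} : v ∈ fixX ρ ↔ ∀ t, ρ (xe t) v = v := Iff.rfl

theorem mem_fixY {v : V} : v ∈ fixY ρ ↔ ∀ t, ρ (ye t) v = v := Iff.rfl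

/-- The hypotheses of the package. -/
structure Hyp : Prop where
  h1 : ∀ v : V, v ∈ fixX ρ → v ∈ fixY ρ → v = 1
  h2 : ∀ v : V, ∃ v1 ∈ fixX ρ, ∃ v2 ∈ fixY ρ, v = v1 * v2
  h3 : ∀ (t : F) (v : V), ρ (xe t) v * v⁻¹ ∈ fixX ρ
  h4 : ∀ (t : F) (v : V), ρ (ye t) v * v⁻¹ ∈ fixY ρ

variable {ρ}

theorem Hyp.uniq (H : Hyp ρ) {a b a' b' : V} (ha : a ∈ fixX ρ) (hb : b ∈ fixY ρ)
    (ha' : a' ∈ fixX ρ) (hb' : b' ∈ fixY ρ) (h : a * b = a' * b') : a = a' ∧ b = b' := by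
  have e : a'⁻¹ * a = b' * b⁻¹ := by
    calc a'⁻¹ * a = a'⁻¹ * (a * b) * b⁻¹ := by group
      _ = a'⁻¹ * (a' * b') * b⁻¹ := by rw [h]
      _ = b' * b⁻¹ := by group
  have h1 : a'⁻¹ * a = 1 :=
    H.h1 _ ((fixX ρ).mul_mem ((fixX ρ).inv_mem ha') ha)
      (by rw [e]; exact (fixY ρ).mul_mem hb' ((fixY ρ).inv_mem hb))
  have h2 : b' * b⁻¹ = 1 := by rw [← e]; exact h1
  constructor
  · exact (inv_mul_eq_one.mp h1).symm
  · exact (mul_inv_eq_one.mp h2).symm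

theorem nn_map_fixX {t : F} (ht : t ≠ 0) {v : V} (hv : v ∈ fixX ρ) : ρ (nn t) v ∈ fixY ρ := by
  intro s
  have e : ρ (ye s) (ρ (nn t) v) = ρ (ye s * nn t) v := by rw [map_mul]; rfl
  rw [e, ye_mul_nn ht, map_mul]
  show ρ (nn t) (ρ (xe (-s * t ^ 2)) v) = ρ (nn t) v
  rw [hv]

theorem nn_map_fixY {t : F} (ht : t ≠ 0) {w : V} (hw : w ∈ fixY ρ) : ρ (nn t) w ∈ fixX ρ := by
  intro s
  have e : ρ (xe s) (ρ (nn t) w) = ρ (xe s * nn t) w := by rw [map_mul]; rfl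
  rw [e, xe_mul_nn ht, map_mul]
  show ρ (nn t) (ρ (ye (-s / t ^ 2)) w) = ρ (nn t) w
  rw [hw]

theorem rho_mul (ρ : Matrix.SpecialLinearGroup (Fin 2) F →* MulAut V)
    (g h : Matrix.SpecialLinearGroup (Fin 2) F) (v : V) : ρ (g * h) v = ρ g (ρ h v) := by
  rw [map_mul]; rfl

theorem nn_apply (t : F) (v : V) : ρ (nn t) v = ρ (xe t) (ρ (ye (-t⁻¹)) (ρ (xe t) v)) := by
  unfold nn
  rw [map_mul, map_mul]
  rfl

/-- `n(t)` on `C_V(U⁺)`. -/
theorem Hyp.nn_apply_X (H : Hyp ρ) {t : F} (ht : t ≠ 0) {v : V} (hv : v ∈ fixX ρ) :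
    ρ (nn t) v = ρ (ye (-t⁻¹)) v * v⁻¹ ∧
      ρ (xe t) (ρ (nn t) v) * (ρ (nn t) v)⁻¹ = v⁻¹ := by
  have ha : ρ (ye (-t⁻¹)) v * v⁻¹ ∈ fixY ρ := H.h4 _ _
  set a : V := ρ (ye (-t⁻¹)) v * v⁻¹ with hadef
  have hb : ρ (xe t) a * a⁻¹ ∈ fixX ρ := H.h3 _ _
  set b : V := ρ (xe t) a * a⁻¹ with hbdef
  have e1 : ρ (ye (-t⁻¹)) v = a * v := by rw [hadef]; group
  have e2 : ρ (xe t) a = b * a := by rw [hbdef]; group
  have e3 : ρ (nn t) v = (b * v) * a := by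
    rw [nn_apply, hv t, e1, map_mul, hv t, e2]
    rw [mul_assoc, mul_comm a v, ← mul_assoc]
  have hn : ρ (nn t) v ∈ fixY ρ := nn_map_fixX ht hv
  have e4 : (b * v) * a = 1 * ρ (nn t) v := by rw [one_mul, e3]
  obtain ⟨h5, h6⟩ := H.uniq ((fixX ρ).mul_mem hb hv) ha (fixX ρ).one_mem hn e4
  refine ⟨h6.symm, ?_⟩
  rw [← h6]
  show b = v⁻¹
  exact eq_inv_of_mul_eq_one_left h5

/-- `n(t)` on `C_V(U⁻)`. -/
theorem Hyp.nn_apply_Y (H : Hyp ρ) {t : F} (ht : t ≠ 0) {w : V} (hw : w ∈ fixY ρ) :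
    ρ (nn t) w = ρ (xe t) w * w⁻¹ ∧ ρ (nn t) (ρ (nn t) w) = w⁻¹ := by
  have hb : ρ (xe t) w * w⁻¹ ∈ fixX ρ := H.h3 _ _
  set b : V := ρ (xe t) w * w⁻¹ with hbdef
  obtain ⟨hX1, hX2⟩ := H.nn_apply_X ht hb
  have ha : ρ (nn t) b ∈ fixY ρ := nn_map_fixX ht hb
  set a : V := ρ (nn t) b with hadef
  have e1 : ρ (xe t) w = b * w := by rw [hbdef]; group
  have e2 : ρ (ye (-t⁻¹)) b = a * b := by rw [hX1]; group
  have e3 : ρ (xe t) a = b⁻¹ * a := by rw [← hX2]; group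
  have e4 : ρ (nn t) w = b * (a * w) := by
    rw [nn_apply, e1, map_mul, hw (-t⁻¹), e2, map_mul, map_mul, e3, hb t, e1]
    rw [mul_comm b⁻¹ a, mul_assoc a b⁻¹ b, inv_mul_cancel, mul_one]
    exact mul_left_comm a b w
  have hn : ρ (nn t) w ∈ fixX ρ := nn_map_fixY ht hw
  have e5 : b * (a * w) = ρ (nn t) w * 1 := by rw [mul_one, e4]
  obtain ⟨h5, h6⟩ := H.uniq hb ((fixY ρ).mul_mem ha hw) hn (fixY ρ).one_mem e5
  refine ⟨h5.symm, ?_⟩
  rw [← h5]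
  show a = w⁻¹
  exact eq_inv_of_mul_eq_one_left h6

theorem Hyp.xe_add_comm (H : Hyp ρ) (t s : F) (w : V) :
    (ρ (xe t) w * w⁻¹) * (ρ (xe s) w * w⁻¹) = ρ (xe (t + s)) w * w⁻¹ := by
  have hb : ρ (xe s) w * w⁻¹ ∈ fixX ρ := H.h3 _ _
  obtain ⟨b, hbdef⟩ : ∃ b : V, b = ρ (xe s) w * w⁻¹ := ⟨_, rfl⟩
  rw [← hbdef] at hb ⊢
  have e1 : ρ (xe s) w = b * w := by rw [hbdef]; group
  have e2 : ρ (xe (t + s)) w = ρ (xe t) (ρ (xe s) w) := by rw [← xe_add, map_mul]; rfl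
  rw [e2, e1, map_mul, hb t]
  rw [mul_comm (ρ (xe t) w * w⁻¹) b, mul_assoc]

theorem Hyp.ye_add_comm (H : Hyp ρ) (t s : F) (w : V) :
    (ρ (ye t) w * w⁻¹) * (ρ (ye s) w * w⁻¹) = ρ (ye (t + s)) w * w⁻¹ := by
  have hb : ρ (ye s) w * w⁻¹ ∈ fixY ρ := H.h4 _ _
  obtain ⟨b, hbdef⟩ : ∃ b : V, b = ρ (ye s) w * w⁻¹ := ⟨_, rfl⟩
  rw [← hbdef] at hb ⊢
  have e1 : ρ (ye s) w = b * w := by rw [hbdef]; group
  have e2 : ρ (ye (t + s)) w = ρ (ye t) (ρ (ye s) w) := by rw [← ye_add, map_mul]; rfl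
  rw [e2, e1, map_mul, hb t]
  rw [mul_comm (ρ (ye t) w * w⁻¹) b, mul_assoc]

theorem Hyp.nn_sq_X (H : Hyp ρ) {t : F} (ht : t ≠ 0) {v : V} (hv : v ∈ fixX ρ) :
    ρ (nn t) (ρ (nn t) v) = v⁻¹ := by
  rw [(H.nn_apply_Y ht (nn_map_fixX ht hv)).1]
  exact (H.nn_apply_X ht hv).2

/-- Fixed-point-freeness of `n(t) * xe s` when `2t + s ≠ 0`. -/
theorem Hyp.fpf_nn_xe (H : Hyp ρ) {t : F} (ht : t ≠ 0) (s : F) (hs : t + s ≠ -t) {v : V}
    (hv : ρ (nn t * xe s) v = v) : v = 1 := by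
  obtain ⟨v1, hv1, v2, hv2, rfl⟩ := H.h2 v
  have hbs : ρ (xe s) v2 * v2⁻¹ ∈ fixX ρ := H.h3 _ _
  obtain ⟨bs, hbsdef⟩ : ∃ b : V, b = ρ (xe s) v2 * v2⁻¹ := ⟨_, rfl⟩
  rw [← hbsdef] at hbs
  have hbt : ρ (xe t) v2 * v2⁻¹ ∈ fixX ρ := H.h3 _ _
  obtain ⟨bt, hbtdef⟩ : ∃ b : V, b = ρ (xe t) v2 * v2⁻¹ := ⟨_, rfl⟩
  rw [← hbtdef] at hbt
  have e1 : ρ (xe s) v2 = bs * v2 := by rw [hbsdef]; group
  have e2 : ρ (nn t) v2 = bt := by rw [hbtdef]; exact (H.nn_apply_Y ht hv2).1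
  have e3 : ρ (nn t * xe s) (v1 * v2) = bt * ρ (nn t) (v1 * bs) := by
    rw [rho_mul, map_mul, hv1 s, e1, ← mul_assoc, map_mul, e2, mul_comm]
  rw [e3] at hv
  have hY : ρ (nn t) (v1 * bs) ∈ fixY ρ := nn_map_fixX ht ((fixX ρ).mul_mem hv1 hbs)
  obtain ⟨h5, h6⟩ := H.uniq hbt hY hv1 hv2 hv
  -- `v1 = bt`, `v2 = ρ (nn t) (bt * bs)`
  have e4 : bt * bs = ρ (xe (t + s)) v2 * v2⁻¹ := by
    rw [hbtdef, hbsdef]; exact H.xe_add_comm t s v2
  rw [← h5, e4] at h6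
  by_cases hr : t + s = 0
  · rw [hr, xe_zero, map_one] at h6
    have hv2one : v2 = 1 := by
      rw [← h6]
      show ρ (nn t) (v2 * v2⁻¹) = 1
      rw [mul_inv_cancel, map_one]
    have hv1one : v1 = 1 := by
      rw [← h5, hbtdef, hv2one, map_one, inv_one, mul_one]
    rw [hv1one, hv2one, mul_one]
  · obtain ⟨r, hrdef⟩ : ∃ r : F, r = t + s := ⟨_, rfl⟩
    rw [← hrdef] at h6 hr hs
    have hu : ρ (xe r) v2 * v2⁻¹ ∈ fixX ρ := H.h3 _ _
    obtain ⟨u, hudef⟩ : ∃ u : V, u = ρ (xe r) v2 * v2⁻¹ := ⟨_, rfl⟩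
    rw [← hudef] at hu h6
    have e5 : ρ (nn r) v2 = u := by rw [hudef]; exact (H.nn_apply_Y hr hv2).1
    have e6 : ρ (nn r) u = v2⁻¹ := by rw [← e5]; exact (H.nn_apply_Y hr hv2).2
    have e7 : ρ (nn r) u = ρ (ye (-r⁻¹)) u * u⁻¹ := (H.nn_apply_X hr hu).1
    have e8 : ρ (nn t) u = ρ (ye (-t⁻¹)) u * u⁻¹ := (H.nn_apply_X ht hu).1
    have e9 : ρ (ye (-t⁻¹ + -r⁻¹)) u * u⁻¹ = 1 := by
      rw [← H.ye_add_comm, ← e7, ← e8, h6, e6, mul_inv_cancel]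
    have hq : -t⁻¹ + -r⁻¹ ≠ 0 := by
      intro h0
      apply hs
      have : r + t = 0 := by
        field_simp at h0
        linear_combination -h0
      linear_combination this
    obtain ⟨q, hqdef⟩ : ∃ q : F, q = -t⁻¹ + -r⁻¹ := ⟨_, rfl⟩
    rw [← hqdef] at e9 hq
    have ht' : -q⁻¹ ≠ 0 := neg_ne_zero.mpr (inv_ne_zero hq)
    have e10 : ρ (nn (-q⁻¹)) u = 1 := by
      rw [(H.nn_apply_X ht' hu).1]
      have : -(-q⁻¹)⁻¹ = q := by
        rw [inv_neg, inv_inv, neg_neg]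
      rw [this]
      exact e9
    have hu1 : u = 1 := by
      have := (ρ (nn (-q⁻¹))).injective (a₁ := u) (a₂ := 1) (by rw [e10, map_one])
      exact this
    have hv2one : v2 = 1 := by rw [← h6, hu1, map_one]
    have hv1one : v1 = 1 := by
      rw [← h5, hbtdef, hv2one, map_one, inv_one, mul_one]
    rw [hv1one, hv2one, mul_one]

/-- Fixed-point-free action of a group element. -/
def Fpf (ρ : Matrix.SpecialLinearGroup (Fin 2) F →* MulAut V)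
    (g : Matrix.SpecialLinearGroup (Fin 2) F) : Prop :=
  ∀ v : V, ρ g v = v → v = 1

theorem fpf_conj {g k h : Matrix.SpecialLinearGroup (Fin 2) F} (hkh : h * k = 1)
    (hf : Fpf ρ (k * g * h)) : Fpf ρ g := by
  intro v hv
  have e : ρ (k * g * h) (ρ k v) = ρ k v := by
    have e1 : ρ (k * g * h) (ρ k v) = ρ (k * g * (h * k)) v := by
      rw [← mul_assoc, rho_mul ρ (k * g * h) k]
    rw [e1, hkh, mul_one, rho_mul, hv]
  have h1 := hf _ e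
  have := (ρ k).injective (a₁ := v) (a₂ := 1) (by rw [h1, map_one])
  exact this

theorem Hyp.fpf_of_zero (H : Hyp ρ) (g : Matrix.SpecialLinearGroup (Fin 2) F)
    (h00 : g 0 0 = 0) (h11 : g 1 1 ≠ 2) : Fpf ρ g := by
  intro v hv
  obtain ⟨hb, hg⟩ := eq_nn_mul_xe g h00
  rw [hg] at hv
  refine H.fpf_nn_xe hb _ ?_ hv
  intro h
  apply h11
  have h' : g 0 1 * (g 1 1 - 2) = 0 := by linear_combination -h
  rcases mul_eq_zero.mp h' with h0 | h0
  · exact absurd h0 hb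
  · linear_combination h0

theorem Hyp.fpf_of_c_ne (H : Hyp ρ) (g : Matrix.SpecialLinearGroup (Fin 2) F)
    (hc : g 1 0 ≠ 0) (htr : g 0 0 + g 1 1 ≠ 2) : Fpf ρ g := by
  have hkh : xe (g 0 0 / g 1 0) * xe (-(g 0 0 / g 1 0)) = 1 := by
    rw [xe_add, add_neg_cancel, xe_zero]
  apply fpf_conj hkh
  apply H.fpf_of_zero
  · simp only [mul_00, mul_01, mul_10, mul_11, xe_00, xe_01, xe_10, xe_11]
    field_simp
    ring
  · have : (xe (-(g 0 0 / g 1 0)) * g * xe (g 0 0 / g 1 0)) 1 1 = g 0 0 + g 1 1 := by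
      simp only [mul_00, mul_01, mul_10, mul_11, xe_00, xe_01, xe_10, xe_11]
      field_simp
      ring
    rw [this]
    exact htr

theorem Hyp.fpf_of_b_ne (H : Hyp ρ) (g : Matrix.SpecialLinearGroup (Fin 2) F)
    (hb : g 0 1 ≠ 0) (htr : g 0 0 + g 1 1 ≠ 2) : Fpf ρ g := by
  have h1 : (1 : F) ≠ 0 := one_ne_zero
  have hm1 : (-1 : F) ≠ 0 := neg_ne_zero.mpr one_ne_zero
  have hkh : nn (-1 : F) * nn (1 : F) = 1 := by
    have := nn_mul_nn_neg (t := (-1 : F)) hm1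
    rwa [neg_neg] at this
  apply fpf_conj hkh
  apply H.fpf_of_c_ne
  · have : (nn (1 : F) * g * nn (-1 : F)) 1 0 = -g 0 1 := by
      simp only [mul_00, mul_01, mul_10, mul_11, nn_00 h1, nn_01 h1, nn_10 h1, nn_11 h1, nn_00 hm1,
        nn_01 hm1, nn_10 hm1, nn_11 hm1]
      field_simp
      ring
    rw [this]
    exact neg_ne_zero.mpr hb
  · have : (nn (1 : F) * g * nn (-1 : F)) 0 0 + (nn (1 : F) * g * nn (-1 : F)) 1 1
        = g 0 0 + g 1 1 := by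
      simp only [mul_00, mul_01, mul_10, mul_11, nn_00 h1, nn_01 h1, nn_10 h1, nn_11 h1, nn_00 hm1,
        nn_01 hm1, nn_10 hm1, nn_11 hm1]
      field_simp
      ring
    rw [this]
    exact htr

theorem Hyp.fpf_of_diag_ne (H : Hyp ρ) (g : Matrix.SpecialLinearGroup (Fin 2) F)
    (hb : g 0 1 = 0) (hc : g 1 0 = 0) (had : g 0 0 ≠ g 1 1) (htr : g 0 0 + g 1 1 ≠ 2) :
    Fpf ρ g := by
  have hkh : ye (1 : F) * ye (-1 : F) = 1 := by
    rw [ye_add, add_neg_cancel, ye_zero]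
  apply fpf_conj hkh
  apply H.fpf_of_c_ne
  · have : (ye (-1 : F) * g * ye (1 : F)) 1 0 = g 1 1 - g 0 0 := by
      simp only [mul_00, mul_01, mul_10, mul_11, ye_00, ye_01, ye_10, ye_11, hb, hc]
      ring
    rw [this]
    exact sub_ne_zero.mpr (Ne.symm had)
  · have : (ye (-1 : F) * g * ye (1 : F)) 0 0 + (ye (-1 : F) * g * ye (1 : F)) 1 1
        = g 0 0 + g 1 1 := by
      simp only [mul_00, mul_01, mul_10, mul_11, ye_00, ye_01, ye_10, ye_11, hb, hc]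
      ring
    rw [this]
    exact htr

theorem Hyp.fpf_of_scalar (H : Hyp ρ) (h5 : (2 : F) ≠ 0 → ∀ v : V, v * v = 1 → v = 1)
    (g : Matrix.SpecialLinearGroup (Fin 2) F)
    (hb : g 0 1 = 0) (hc : g 1 0 = 0) (had : g 0 0 = g 1 1) (htr : g 0 0 + g 1 1 ≠ 2) :
    Fpf ρ g := by
  have hd := det_eq g
  rw [hb, zero_mul, sub_zero, ← had] at hd
  have ha1 : g 0 0 ≠ 1 := by
    intro h
    apply htr
    rw [← had, h]
    norm_num
  have ha : g 0 0 = -1 := by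
    have : (g 0 0 - 1) * (g 0 0 + 1) = 0 := by linear_combination hd
    rcases mul_eq_zero.mp this with h | h
    · exact absurd (sub_eq_zero.mp h) ha1
    · linear_combination h
  have h2 : (2 : F) ≠ 0 := by
    intro h
    apply htr
    rw [← had, ha]
    linear_combination -2 * h
  have h1 : (1 : F) ≠ 0 := one_ne_zero
  have hg : g = nn (1 : F) * nn (1 : F) := by
    apply sl2_ext <;>
      simp only [mul_00, mul_01, mul_10, mul_11, nn_00 h1, nn_01 h1, nn_10 h1, nn_11 h1, hb, hc,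
        ← had, ha] <;> field_simp <;> ring
  intro v hv
  apply h5 h2
  obtain ⟨v1, hv1, v2, hv2, rfl⟩ := H.h2 v
  have e : ρ g (v1 * v2) = v1⁻¹ * v2⁻¹ := by
    have e1 : ρ g (v1 * v2) = ρ (nn (1 : F)) (ρ (nn (1 : F)) (v1 * v2)) := by
      rw [hg, rho_mul]
    rw [e1, map_mul, map_mul, H.nn_sq_X h1 hv1, (H.nn_apply_Y h1 hv2).2]
  rw [e] at hv
  calc v1 * v2 * (v1 * v2) = v1 * v2 * (v1⁻¹ * v2⁻¹) := by rw [hv]
    _ = 1 := by
      rw [mul_comm v1⁻¹ v2⁻¹, ← mul_assoc, mul_assoc v1 v2 v2⁻¹, mul_inv_cancel, mul_one,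
        mul_inv_cancel]

theorem Hyp.fpf (H : Hyp ρ) (h5 : (2 : F) ≠ 0 → ∀ v : V, v * v = 1 → v = 1)
    (g : Matrix.SpecialLinearGroup (Fin 2) F) (htr : g 0 0 + g 1 1 ≠ 2) : Fpf ρ g := by
  by_cases hc : g 1 0 = 0
  · by_cases hb : g 0 1 = 0
    · by_cases had : g 0 0 = g 1 1
      · exact H.fpf_of_scalar h5 g hb hc had htr
      · exact H.fpf_of_diag_ne g hb hc had htr
    · exact H.fpf_of_b_ne g hb htr
  · exact H.fpf_of_c_ne g hc htr

end Mod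

/-- Package A of the S2863 project. -/
theorem sl2QuadFpf : Cfsg.Agent.Lib.Helper48.FrakL.SL2QuadFpf.{u, v} := by
  intro F _ V _ ρ h1 h2 h3 h4 h5 g htr v hv
  have H : Hyp ρ :=
    { h1 := fun v hx hy => h1 v hx hy
      h2 := fun v => by
        obtain ⟨v1, v2, hv, hx, hy⟩ := h2 v
        exact ⟨v1, hx, v2, hy, hv⟩
      h3 := fun t v t' => h3 t t' v
      h4 := fun t v t' => h4 t t' v }
  exact H.fpf h5 g htr v hv

end Cfsg.Agent.Lib.Helper33.FrakL
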